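import Groth.Agent.ConicCurveLib.Point
import Groth.Agent.S0212
import Groth.Agent.S3449
import Groth.Agent.S9681
import Groth.Agent.S1582
import Groth.Agent.S2344
import Groth.Agent.CycC1Lib.Degree
import Groth.Agent.PicPnLib.BaseChange
import Groth.Agent.GenusZeroLib.PSmooth
import Groth.Agent.GenusZeroLib.PSpace
import Groth.Agent.TsenLib.Basic
import Groth.Agent.SquareLib.NonComplete
import Groth.Agent.StratLib.Light
import Groth.Agent.PnDualLib.ProjAlg

/-!
# Surfaces fibred in curves of genus zero
-/

set_option autoImplicit false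
set_option linter.style.haveILetI false
set_option maxHeartbeats 1000000
universe u

open CategoryTheory CategoryTheory.Limits AlgebraicGeometry TopologicalSpace

noncomputable section

namespace ConicCurveLib

variable {S P X Y : Scheme.{u}}

theorem residueFieldMap_congr {f g : X ⟶ Y} (h : f = g) (x : X) :
    f.residueFieldMap x = eqToHom (congrArg (fun φ : X ⟶ Y => Y.residueField (φ x)) h) ≫ g.residueFieldMap x := by
  subst h
  simp

theorem isIso_residueFieldMap_of_preimmersion (f : X ⟶ Y) [IsPreimmersion f] (x : X) :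
    IsIso (f.residueFieldMap x) := by
  have hsurj : Function.Surjective (f.residueFieldMap x).hom := by
    intro a
    obtain ⟨b, rfl⟩ := IsLocalRing.residue_surjective (R := X.presheaf.stalk x) a
    obtain ⟨c, rfl⟩ := f.stalkMap_surjective x b
    exact ⟨IsLocalRing.residue _ c, rfl⟩
  exact (ConcreteCategory.isIso_iff_bijective _).2 ⟨(f.residueFieldMap x).hom.injective, hsurj⟩

/-- Two integral schemes with a common generic fibre are birational. -/
theorem birationalOver_of_common [IsIntegral X] [IsIntegral Y] (sX : X ⟶ S) (sY : Y ⟶ S) [LocallyOfFiniteType sX]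
    [LocallyOfFiniteType sY] (a : P ⟶ X) (b : P ⟶ Y) (w : a ≫ sX = b ≫ sY) [IsPreimmersion a] [IsPreimmersion b]
    (ξ : P) (ha : a ξ = genericPoint X) (hb : b ξ = genericPoint Y) : Scheme.BirationalOver sX sY := by
  refine (Groth.Agent.S9681.result sX sY).2 ?_
  haveI := isIso_residueFieldMap_of_preimmersion a ξ
  haveI := isIso_residueFieldMap_of_preimmersion b ξ
  rw [← ha, ← hb]
  refine ⟨congr($w ξ), asIso (a.residueFieldMap ξ) ≪≫ (asIso (b.residueFieldMap ξ)).symm, ?_⟩
  rw [Iso.trans_hom, Iso.symm_hom, asIso_hom, asIso_inv, ← Category.assoc, IsIso.comp_inv_eq, Category.assoc,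
    ← Scheme.residueFieldMap_comp, ← Scheme.residueFieldMap_comp]
  exact residueFieldMap_congr w ξ

variable (k : Type u) [Field k]

/-- A scheme over a field, mapped onto the generic point. -/
theorem isDominant_of_surjective (f : X ⟶ Y) (h : Function.Surjective f) : IsDominant f :=
  ⟨h.denseRange⟩

/-- The dimension of the generic fibre. -/
theorem dim_add_dim_fiber [IsIntegral X] [IsIntegral Y] (p : X ⟶ Spec (CommRingCat.of k))
    (q : Y ⟶ Spec (CommRingCat.of k)) [LocallyOfFiniteType p] [LocallyOfFiniteType q] (f : X ⟶ Y) (hf : f ≫ q = p)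
    [IsDominant f] :
    topologicalKrullDim (X : Type u) =
      topologicalKrullDim (Y : Type u) + topologicalKrullDim ↥(f.fiber (genericPoint Y)) := by
  haveI : Subsingleton ↥(Spec (CommRingCat.of k)) := inferInstanceAs (Subsingleton (PrimeSpectrum k))
  refine Groth.Agent.S3449.result (fun s => ?_) (fun S' hS' s hs _ => ?_) p q f hf
  · exact (CycC1Lib.isSetup_field (k := k)).2.1 s
  · refine IsHomeomorph.topologicalKrullDim_eq _ (Homeomorph.setCongr ?_).isHomeomorph
    exact Set.ext fun t => ⟨fun ht => ⟨ht, by rw [Subsingleton.elim t s]⟩, fun ht => ht.1⟩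

variable [IsAlgClosed k] (B : Scheme.{u}) [B.Over (Spec (CommRingCat.of k))]

/-- The residue field at the generic point of a curve is a `C₁` field. -/
theorem isC1_residueField [IsIntegral B] [LocallyOfFiniteType (B ↘ Spec (CommRingCat.of k))]
    (hB : topologicalKrullDim B = 1) : Curves.IsCi (B.residueField (genericPoint B)) 1 := by
  letI := Curv2.stalkAlgebra k B (genericPoint B)
  obtain ⟨s, hs, hs'⟩ := CurveFFLib.trdeg_functionField (k := k) (X := B)
  obtain rfl : s = 1 := by
    rw [hB] at hs
    exact_mod_cast hs.symm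
  letI : Algebra B.functionField (B.residueField (genericPoint B)) := (B.residue (genericPoint B)).hom.toAlgebra
  haveI : Module.Finite B.functionField (B.residueField (genericPoint B)) :=
    Module.Finite.of_surjective (Algebra.linearMap B.functionField (B.residueField (genericPoint B)))
      (IsLocalRing.residue_surjective (R := B.presheaf.stalk (genericPoint B)))
  exact TsenLib.isCi_of_isAlgebraic B.functionField (B.residueField (genericPoint B)) 1
    (Groth.Agent.S0212.result k B.functionField 1 hs')

/-- Projective space over an extension is the base change. -/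
theorem exists_isPullback_projSpace (n : ℕ) (K : Type u) [Field K] (φ : CommRingCat.of k ⟶ CommRingCat.of K) :
    ∃ j : CohB1.ProjSpace n K ⟶ CohB1.ProjSpace n k,
      IsPullback j (CohB1.ProjSpace.toSpec n K) (CohB1.ProjSpace.toSpec n k) (Spec.map φ) := by
  obtain ⟨qK, hK, -⟩ := PicPnLib.exists_map n K
  obtain ⟨qk, hk, -⟩ := PicPnLib.exists_map n k
  let j := hk.lift qK (CohB1.ProjSpace.toSpec n K ≫ Spec.map φ)
    (by rw [Category.assoc, specULiftZIsTerminal.hom_ext (Spec.map φ ≫ specULiftZIsTerminal.from _)
      (specULiftZIsTerminal.from _)]; exact hK.w)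
  refine ⟨j, IsPullback.of_right ?_ (hk.lift_snd _ _ _) hk⟩
  rw [hk.lift_fst, specULiftZIsTerminal.hom_ext (Spec.map φ ≫ specULiftZIsTerminal.from _)
    (specULiftZIsTerminal.from _)]
  exact hK

variable (X : Scheme.{u}) [X.Over (Spec (CommRingCat.of k))] [IsIntegral X]

/-- A surface fibred over a curve with generic fibre of genus zero is birational to the product with the line. -/
theorem birationalOver_prod [IsIntegral B] [IsProper (X ↘ Spec (CommRingCat.of k))]
    [IsProper (B ↘ Spec (CommRingCat.of k))] (hX2 : topologicalKrullDim X = 2) (hB1 : topologicalKrullDim B = 1)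
    (π : X ⟶ B) (hπ : π ≫ (B ↘ Spec (CommRingCat.of k)) = X ↘ Spec (CommRingCat.of k))
    (hsurj : Function.Surjective π)
    [GeometricallyIntegral (π.fiberToSpecResidueField (genericPoint B))]
    (hgen : letI : (π.fiber (genericPoint B)).Over (Spec (B.residueField (genericPoint B))) :=
        ⟨π.fiberToSpecResidueField (genericPoint B)⟩
      Curv2.genus (B.residueField (genericPoint B)) (π.fiber (genericPoint B)) = 0) :
    Scheme.BirationalOver π (pullback.fst (B ↘ Spec (CommRingCat.of k)) (CohB1.ProjSpace.toSpec 1 k)) := by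
  let η := genericPoint B
  let K : Type u := B.residueField η
  let qB := B ↘ Spec (CommRingCat.of k)
  let t := CohB1.ProjSpace.toSpec 1 k
  haveI : IsProper π := by
    haveI : IsProper (π ≫ qB) := by rw [hπ]; infer_instance
    exact IsProper.of_comp π qB
  haveI := isDominant_of_surjective π hsurj
  let F := π.fiber η
  letI : F.Over (Spec (CommRingCat.of K)) := ⟨π.fiberToSpecResidueField η⟩
  haveI : IsProper (F ↘ Spec (CommRingCat.of K)) := MorphismProperty.pullback_snd _ _ (inferInstanceAs (IsProper π))
  haveI : GeometricallyIntegral (F ↘ Spec (CommRingCat.of K)) :=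
    inferInstanceAs (GeometricallyIntegral (π.fiberToSpecResidueField η))
  haveI : Subsingleton ↥(Spec (CommRingCat.of K)) := inferInstanceAs (Subsingleton (PrimeSpectrum K))
  haveI : IsIntegral F := GeometricallyIntegral.isIntegral_of_subsingleton (F ↘ Spec (CommRingCat.of K))
  have hF1 : topologicalKrullDim F = 1 := by
    have h := dim_add_dim_fiber k (X ↘ Spec (CommRingCat.of k)) qB π hπ
    rw [hX2, hB1] at h
    have hne : topologicalKrullDim F ≠ ⊥ := by
      intro h'
      rw [show topologicalKrullDim ↥(π.fiber η) = ⊥ from h', WithBot.add_bot] at h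
      exact absurd h (by decide)
    obtain ⟨n, hn⟩ := WithBot.ne_bot_iff_exists.1 hne
    rw [show topologicalKrullDim ↥(π.fiber η) = _ from hn.symm] at h
    rw [← hn]
    have h' : (2 : ℕ∞) = 1 + n := WithBot.coe_injective (by rw [WithBot.coe_add]; exact h)
    induction n using ENat.recTopCoe with
    | top => simp at h'
    | coe m =>
      have : 2 = 1 + m := by exact_mod_cast h'
      obtain rfl : m = 1 := by omega
      rfl
  obtain ⟨e, he⟩ := exists_iso_line_of_C1 K F hF1 hgen (isC1_residueField k B hB1)
  -- the product and its generic fibre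
  haveI := GenusZeroLib.smooth_toSpec (R := k) 1
  haveI : Surjective t := by
    haveI := GenusZeroLib.isIntegral_projSpace k 1
    exact ⟨fun y => ⟨genericPoint (CohB1.ProjSpace 1 k), Subsingleton.elim (α := PrimeSpectrum k) _ _⟩⟩
  let Y := pullback qB t
  let sY : Y ⟶ B := pullback.fst qB t
  haveI : IsIntegral Y := by
    haveI := GenusZeroLib.isIntegral_projSpace k 1
    haveI := StratLib.isProper_toSpec 1 k
    exact Groth.Agent.S1582.result k _ _ qB t
  let g := B.fromSpecResidueField η
  let φ : CommRingCat.of k ⟶ CommRingCat.of K := Spec.preimage (g ≫ qB)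
  obtain ⟨j, hj⟩ := exists_isPullback_projSpace k 1 K φ
  rw [Spec.map_preimage] at hj
  let b₀ : CohB1.ProjSpace 1 K ⟶ Y := pullback.lift (CohB1.ProjSpace.toSpec 1 K ≫ g) j
    (by rw [Category.assoc]; exact hj.w.symm)
  have hb₀ : b₀ ≫ pullback.snd qB t = j := pullback.lift_snd _ _ _
  have hb₀' : b₀ ≫ sY = CohB1.ProjSpace.toSpec 1 K ≫ g := pullback.lift_fst _ _ _
  have hsq : IsPullback b₀ (CohB1.ProjSpace.toSpec 1 K) sY g := by
    refine IsPullback.of_right ?_ hb₀' (IsPullback.of_hasPullback qB t).flip
    rw [hb₀]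
    exact hj
  haveI : IsPreimmersion b₀ := MorphismProperty.of_isPullback hsq.flip (inferInstanceAs (IsPreimmersion g))
  haveI : IsPreimmersion (π.fiberι η) := MorphismProperty.pullback_fst _ _ (inferInstanceAs (IsPreimmersion g))
  have hw : π.fiberι η ≫ π = (e.hom ≫ b₀) ≫ sY := by
    rw [Category.assoc, hb₀', ← Category.assoc, he]
    exact pullback.condition
  refine birationalOver_of_common π sY (π.fiberι η) (e.hom ≫ b₀) hw (genericPoint F) ?_ ?_
  · have hη : η ∈ Set.range g := ⟨Classical.arbitrary _, Scheme.fromSpecResidueField_apply _ _⟩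
    have h : π (genericPoint X) = η := by
      have h := (genericPoint_spec X).image π.continuous
      rw [Set.image_univ, hsurj.range_eq, closure_univ] at h
      exact h.eq (genericPoint_spec B)
    obtain ⟨z, hz⟩ : genericPoint X ∈ Set.range (π.fiberι η) := by
      rw [Scheme.Hom.range_fiberι]; exact h
    refine Specializes.antisymm ?_ (genericPoint_specializes _) |>.eq
    rw [← hz]
    exact (genericPoint_specializes z).map (π.fiberι η).continuous
  · have h : sY (genericPoint Y) = η := by
      have h := (genericPoint_spec Y).image sY.continuous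
      rw [Set.image_univ, (sY.surjective).range_eq, closure_univ] at h
      exact h.eq (genericPoint_spec B)
    obtain ⟨z, -, hz⟩ : ∃ z : CohB1.ProjSpace 1 K, True ∧ b₀ z = genericPoint Y := by
      obtain ⟨z, hz, -⟩ := Scheme.Pullback.exists_preimage_pullback (f := sY) (g := g) (genericPoint Y)
        (Classical.arbitrary _) (by rw [h, Scheme.fromSpecResidueField_apply])
      refine ⟨hsq.isoPullback.inv z, trivial, ?_⟩
      rw [← Scheme.Hom.comp_apply, hsq.isoPullback_inv_fst]
      exact hz
    refine Specializes.antisymm ?_ (genericPoint_specializes _) |>.eq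
    rw [Scheme.Hom.comp_apply, ← hz]
    obtain ⟨z', rfl⟩ := e.hom.surjective z
    exact ((genericPoint_specializes z').map e.hom.continuous).map b₀.continuous

/-- Such a surface has a section. -/
theorem exists_section [IsIntegral B] [IsProper (X ↘ Spec (CommRingCat.of k))]
    [IsProper (B ↘ Spec (CommRingCat.of k))] [Smooth (B ↘ Spec (CommRingCat.of k))]
    (hX2 : topologicalKrullDim X = 2) (hB1 : topologicalKrullDim B = 1)
    (π : X ⟶ B) (hπ : π ≫ (B ↘ Spec (CommRingCat.of k)) = X ↘ Spec (CommRingCat.of k))
    (hbir : Scheme.BirationalOver π (pullback.fst (B ↘ Spec (CommRingCat.of k)) (CohB1.ProjSpace.toSpec 1 k))) :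
    ∃ σ : B ⟶ X, σ ≫ π = 𝟙 B := by
  let qB := B ↘ Spec (CommRingCat.of k)
  let t := CohB1.ProjSpace.toSpec 1 k
  obtain ⟨f, hf⟩ := hbir
  -- a closed point of the target and the constant through it
  haveI : Nonempty ↥(pullback qB t) := by
    haveI := GenusZeroLib.isIntegral_projSpace k 1
    haveI := GenusZeroLib.smooth_toSpec (R := k) 1
    haveI := StratLib.isProper_toSpec 1 k
    haveI := Groth.Agent.S1582.result k _ _ qB t
    infer_instance
  haveI : JacobsonSpace ↥(pullback qB t) := by
    haveI := GenusZeroLib.smooth_toSpec (R := k) 1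
    exact LocallyOfFiniteType.jacobsonSpace (pullback.fst qB t ≫ qB)
  obtain ⟨w, hwT, hw⟩ := nonempty_inter_closedPoints (X := ↥(pullback qB t)) (Z := (f.target : Set ↥(pullback qB t)))
    f.dense_target.nonempty f.target.isOpen.isLocallyClosed
  haveI := GenusZeroLib.smooth_toSpec (R := k) 1
  obtain ⟨w₀, hw₀, hw₀'⟩ : ∃ w₀ : Spec (CommRingCat.of k) ⟶ pullback qB t,
      w₀ ≫ pullback.fst qB t ≫ qB = 𝟙 _ ∧ ∀ z, w₀ z = w :=
    ⟨pointOfClosedPoint (pullback.fst qB t ≫ qB) w hw, pointOfClosedPoint_comp _ _ _,
      pointOfClosedPoint_apply _ _ _⟩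
  let c : Spec (CommRingCat.of k) ⟶ CohB1.ProjSpace 1 k := w₀ ≫ pullback.snd qB t
  have hc : c ≫ t = 𝟙 _ := by
    rw [show c ≫ t = w₀ ≫ pullback.fst qB t ≫ qB by simp [c, pullback.condition]]
    exact hw₀
  let σ₀ : B ⟶ pullback qB t := pullback.lift (𝟙 B) (qB ≫ c) (by rw [Category.assoc, hc, Category.comp_id, Category.id_comp])
  let V : B.Opens := σ₀ ⁻¹ᵁ f.target
  have hVne : (V : Set B).Nonempty := by
    refine ⟨pullback.fst qB t w, show σ₀ (pullback.fst qB t w) ∈ f.target from ?_⟩
    have h : (w₀ ≫ pullback.fst qB t) ≫ σ₀ = w₀ := by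
      apply pullback.hom_ext
      · simp only [σ₀, Category.assoc]
        rw [pullback.lift_fst, Category.comp_id]
      · rw [Category.assoc, Category.assoc, pullback.lift_snd, ← Category.assoc w₀, ← Category.assoc,
          Category.assoc w₀, hw₀, Category.id_comp]
    have h' := congr($h (Classical.arbitrary _))
    simp only [Scheme.Hom.comp_apply, hw₀'] at h'
    rw [h']
    exact hwT
  let g : (V : Scheme.{u}) ⟶ X := σ₀.resLE f.target V le_rfl ≫ f.iso.inv ≫ f.source.ι
  have hg : g ≫ π = V.ι := by
    have h2 : f.iso.inv ≫ f.source.ι ≫ π = f.target.ι ≫ pullback.fst qB t := by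
      rw [Iso.inv_comp_eq]
      exact (Eq.symm hf)
    simp only [g, Category.assoc]
    rw [h2, ← Category.assoc, Scheme.Hom.resLE_comp_ι]
    simp only [σ₀, Category.assoc]
    rw [pullback.lift_fst, Category.comp_id]
  have hd : Dense (V : Set B) := IsOpen.dense V.isOpen hVne
  haveI : LocallyOfFiniteType qB := inferInstance
  have hreg : ∀ y : B, IsRegularLocalRing (B.presheaf.stalk y) := fun y => CurveVBLib.regular_stalk (k := k) y
  obtain ⟨σ, ⟨hσ, hσk⟩, -⟩ := Groth.Agent.S2344.result k B X
    (fun x hx => PnDualLib.dim_stalk_closed (k := k) (fun y => hreg y) hB1 x hx)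
    (@SquareLib.isNormal_of_smooth k _ _ (Over.mk qB) ‹Smooth (B ↘ Spec (CommRingCat.of k))›) V hd g
    (by rw [← hπ, ← Category.assoc, hg])
  refine ⟨σ, ?_⟩
  haveI : IsReduced B := inferInstance
  haveI : B.IsSeparated := ⟨by rw [← terminal.comp_from qB]; infer_instance⟩
  haveI : IsDominant V.ι := ⟨by rw [DenseRange, Scheme.Opens.range_ι]; exact hd⟩
  exact ext_of_isDominant_of_isSeparated qB (by rw [Category.assoc, hπ, hσk, Category.id_comp]) V.ι
    (by rw [← Category.assoc, hσ, hg, Category.comp_id])

end ConicCurveLib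

end
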