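import Groth.Agent.FFLib.ConicC1
import Groth.Agent.CurveDualLib.GenusField
import Groth.Agent.VeryAmpleLib.Bc
import Groth.Agent.FibVALib.Curve
import Groth.Agent.S10994
import Groth.Agent.S14512
import Groth.Agent.S6544
import Mathlib.AlgebraicGeometry.Morphisms.LocalFlatDescent

/-!
# Curves of genus zero over a `C₁` field
-/

set_option autoImplicit false
set_option linter.style.haveILetI false
universe u

open CategoryTheory CategoryTheory.Limits AlgebraicGeometry TopologicalSpace IsLocalRing

noncomputable section

namespace ConicCurveLib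

variable (k : Type u) [Field k] (X : Scheme.{u}) [X.Over (Spec (CommRingCat.of k))]
  [IsProper (X ↘ Spec (CommRingCat.of k))]

attribute [local instance] VeryAmpleLib.bcOver CurveDualLib.algFF

/-- A geometrically integral curve of genus zero is smooth. -/
theorem smooth_of_genus_zero [GeometricallyIntegral (X ↘ Spec (CommRingCat.of k))]
    (hdim : topologicalKrullDim X = 1) (hg : Curv2.genus k X = 0) : Smooth (X ↘ Spec (CommRingCat.of k)) := by
  haveI : IsIntegral X := GeometricallyIntegral.isIntegral_of_subsingleton (X ↘ Spec (CommRingCat.of k))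
  let K := AlgebraicClosure k
  haveI := VeryAmpleLib.isProper_bc k X K
  haveI := VeryAmpleLib.isIntegral_bc k X K
  have h : Smooth (Curv2.bc k X K ↘ Spec (CommRingCat.of K)) :=
    Groth.Agent.S14512.result K (Curv2.bc k X K) ((VeryAmpleLib.dim_bc k X K).trans hdim)
      ((VeryAmpleLib.genus_bc k X K).trans hg)
  haveI : Surjective (Spec.map (CommRingCat.ofHom (algebraMap k K))) :=
    ⟨fun y => ⟨Classical.arbitrary _, Subsingleton.elim (α := PrimeSpectrum k) _ _⟩⟩
  haveI : Flat (Spec.map (CommRingCat.ofHom (algebraMap k K))) :=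
    Flat.SpecMap_iff.2 ((RingHom.flat_algebraMap_iff).2 inferInstance)
  exact MorphismProperty.of_isPullback_of_descendsAlong (P := @Smooth) (Q := @Surjective ⊓ @Flat ⊓ @QuasiCompact)
    (VeryAmpleLib.isPullback_bc k X K).flip ⟨⟨inferInstance, inferInstance⟩, inferInstance⟩ h

/-- A geometrically integral curve of genus zero over a `C₁` field is the line. -/
theorem exists_iso_line_of_C1 [GeometricallyIntegral (X ↘ Spec (CommRingCat.of k))]
    (hdim : topologicalKrullDim X = 1) (hg : Curv2.genus k X = 0) (hC1 : Curves.IsCi k 1) :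
    ∃ e : X ≅ CohB1.ProjSpace 1 k, e.hom ≫ CohB1.ProjSpace.toSpec 1 k = X ↘ Spec (CommRingCat.of k) := by
  haveI : IsIntegral X := GeometricallyIntegral.isIntegral_of_subsingleton (X ↘ Spec (CommRingCat.of k))
  haveI := smooth_of_genus_zero k X hdim hg
  have h0 := FibVALib.finrank_h0_structure k X hdim
  have hFF := CurveDualLib.isFunctionField' (k := k) hdim h0
  have hgFF : FunFld.genus k X.functionField = 0 := (CurveDualLib.genus_eq' (k := k) hdim h0).trans hg
  obtain ⟨-, P, hP⟩ := (Groth.Agent.S10994.result k X.functionField hFF).2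
    (Groth.Agent.FFLib.exists_generator_of_genus_zero_C1 hFF hgFF hC1)
  obtain ⟨x, hx, hxP⟩ := CurveDualLib.exists_point (k := k) hdim P
  haveI := HurwitzLib.dvr_stalk_closed (k := k) hdim hx
  obtain ⟨L, hL, s, hd, -, -⟩ := GenusZeroLib.exists_point_bundle (k := k) hdim hx
  letI := Curv2.resAlgebra k X x
  haveI := HurwitzLib.finite_residueField (k := k) hx
  have hsurj : Function.Surjective (algebraMap k (X.residueField x)) := by
    intro a
    obtain ⟨b, rfl⟩ := IsLocalRing.residue_surjective (R := X.presheaf.stalk x) a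
    subst hxP
    obtain ⟨c, hc⟩ := Groth.Agent.FFLib.exists_const_sub_lt hP (y := algebraMap (X.presheaf.stalk x) X.functionField b)
      ((CurveDualLib.ptVal_le_one_iff (k := k) hdim hx _).2 ⟨b, rfl⟩)
    letI := Curv2.stalkAlgebra k X x
    refine ⟨c, ?_⟩
    rw [CurveDualLib.ptPlace_val, ← CurveDualLib.algebraMap_stalk x c, ← map_sub,
      CurveDualLib.ptVal_lt_one_iff] at hc
    exact ((Ideal.Quotient.eq.2 hc)).symm
  have h1 : Module.finrank k (X.residueField x) = 1 := by
    refine le_antisymm ?_ Module.finrank_pos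
    simpa using LinearMap.finrank_le_finrank_of_surjective (f := Algebra.linearMap k (X.residueField x)) hsurj
  haveI : GeometricallyIrreducible (X ↘ Spec (CommRingCat.of k)) := inferInstance
  exact Groth.Agent.S6544.result k X hdim hg L hL (by rw [hd, h1]; exact odd_one)

end ConicCurveLib

end
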