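import Groth.Agent.ConicCurveLib.Generic
import Groth.Agent.ZeroFamLib.Fibre
import Groth.Agent.UOpenLib.DimOne
import Groth.Agent.MiscFlat6.NormalLowDim
import Groth.Agent.FibVanLib.H1Main
import Groth.Agent.S1026
import Groth.Agent.S2156
import Groth.Agent.SteinLib.Conn
import Groth.Agent.DepthLib.Codepth
import Groth.Agent.PerfBaseLib.SplitSheaf

/-!
# Surfaces over a curve with projective lines as closed fibres
-/

set_option autoImplicit false
set_option linter.style.haveILetI false
set_option maxHeartbeats 1000000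
universe u

open CategoryTheory CategoryTheory.Limits AlgebraicGeometry TopologicalSpace
open KFlatLib (pb)

noncomputable section

namespace ConicCurveLib

/-- Being connected and smooth over a field, a proper scheme is integral. -/
theorem isIntegral_of_h0 (k : Type u) [Field k] (Z : Scheme.{u}) [Z.Over (Spec (CommRingCat.of k))]
    [IsProper (Z ↘ Spec (CommRingCat.of k))] [Smooth (Z ↘ Spec (CommRingCat.of k))] [Nonempty Z]
    (h0 : Module.finrank k (Coh.HH Z (Coh.structureModule Z) 0) = 1) : IsIntegral Z := by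
  letI := GenusZeroLib.kmod k (Coh.structureModule Z)
  have h : Module.finrank k Γ(Coh.structureModule Z, ⊤) = 1 :=
    (GenusZeroLib.e0k k (Coh.structureModule Z)).finrank_eq.symm.trans h0
  obtain ⟨z₀⟩ := ‹Nonempty Z›
  haveI : Nontrivial Γ(Z, ⊤) := (Z.presheaf.germ ⊤ z₀ trivial).hom.domain_nontrivial
  have hbij : Function.Bijective (GenusZeroLib.ρ k (X := Z)) := by
    refine ⟨(GenusZeroLib.ρ k (X := Z)).injective, fun c => ?_⟩
    obtain ⟨r, hr⟩ := (finrank_eq_one_iff_of_nonzero' (K := k)
      (show Γ(Coh.structureModule Z, ⊤) from (1 : Γ(Z, ⊤))) (show (1 : Γ(Z, ⊤)) ≠ 0 from one_ne_zero)).mp h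
      (show Γ(Coh.structureModule Z, ⊤) from c)
    exact ⟨r, (mul_one _).symm.trans hr⟩
  haveI : IsIso (Z ↘ Spec (CommRingCat.of k)).appTop := by
    rw [ConcreteCategory.isIso_iff_bijective]
    have he : Function.Bijective (Scheme.ΓSpecIso (CommRingCat.of k)).inv :=
      ConcreteCategory.bijective_of_isIso _
    exact (Function.Bijective.of_comp_iff _ he).1 hbij
  haveI : ConnectedSpace Z := SteinLib.connectedSpace_of_appTop (Z ↘ Spec (CommRingCat.of k)) inferInstance
  haveI := CurvLib.isNoetherian k (X := Z)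
  haveI : ∀ z : Z, IsDomain (Z.presheaf.stalk z) := fun z =>
    haveI := CurveVBLib.regular_stalk (k := k) z
    CommAlgDim.isDomain_of_isRegularLocalRing _
  exact CurveVBLib.isIntegral_of_connected

variable (k : Type u) [Field k] [IsAlgClosed k] (X : Scheme.{u}) [X.Over (Spec (CommRingCat.of k))] [IsIntegral X]
  [IsProper (X ↘ Spec (CommRingCat.of k))] (B : Scheme.{u}) [B.Over (Spec (CommRingCat.of k))] [IsIntegral B]
  [IsProper (B ↘ Spec (CommRingCat.of k))]

attribute [local instance] VeryAmpleLib.bcOver ZeroFamLib.fibreOver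

include k in
omit [IsAlgClosed k] in
/-- A non-generic point of a curve is closed. -/
theorem isClosed_or_eq_generic (hB1 : topologicalKrullDim B = 1) (b : B) :
    IsClosed ({b} : Set B) ∨ b = genericPoint B := by
  by_cases hb : b = genericPoint B
  · exact Or.inr hb
  · exact Or.inl (CurveDualLib.isClosed_of_ne_generic (k := k) hB1 hb)

/-- Lines as closed fibres give a family of curves of genus zero. -/
theorem isCurveOfGenus_of_closed_fibres (hX2 : topologicalKrullDim X = 2) (hB1 : topologicalKrullDim B = 1)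
    (hreg : ∀ b : B, IsRegularLocalRing (B.presheaf.stalk b))
    (π : X ⟶ B) (hπ : π ≫ (B ↘ Spec (CommRingCat.of k)) = X ↘ Spec (CommRingCat.of k))
    (hsurj : Function.Surjective π)
    (hfib : ∀ b : B, IsClosed ({b} : Set B) → Nonempty (π.fiber b ≅ CohB1.ProjSpace 1 k)) :
    ModFun.IsCurveOfGenus 0 π := by
  haveI : IsProper π := by
    haveI : IsProper (π ≫ (B ↘ Spec (CommRingCat.of k))) := by rw [hπ]; infer_instance
    exact IsProper.of_comp π (B ↘ Spec (CommRingCat.of k))
  haveI : IsLocallyNoetherian B := LocallyOfFiniteType.isLocallyNoetherian (B ↘ Spec (CommRingCat.of k))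
  haveI : LocallyOfFinitePresentation π := inferInstance
  haveI : IsDominant π := isDominant_of_surjective π hsurj
  haveI : Flat π := UOpenLib.flat_of_dominant_regular_dim_one π
    (fun y => ⟨hreg y, (MiscFlat6.ringKrullDim_stalk_le B y).trans hB1.le⟩) π.denseRange
  haveI hfp : ∀ b : B, IsProper (π.fiber b ↘ Spec (CommRingCat.of (B.residueField b))) := fun b =>
    MorphismProperty.pullback_snd _ _ (inferInstanceAs (IsProper π))
  -- the closed fibres
  have hclosed : ∀ b : B, IsClosed ({b} : Set B) → IsIntegral (π.fiber b) ∧ topologicalKrullDim ↥(π.fiber b) = 1 ∧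
      Subsingleton (Coh.HH (π.fiber b) (Coh.structureModule (π.fiber b)) 1) ∧
      Smooth (π.fiber b ↘ Spec (CommRingCat.of (B.residueField b))) ∧
      Module.finrank (B.residueField b) (Coh.HH (π.fiber b) (Coh.structureModule (π.fiber b)) 0) = 1 := by
    intro b hb
    obtain ⟨e⟩ := hfib b hb
    haveI := GenusZeroLib.isIntegral_projSpace k 1
    haveI : Nonempty (π.fiber b) := ⟨e.inv (genericPoint (CohB1.ProjSpace 1 k))⟩
    haveI : IsIntegral (π.fiber b) := isIntegral_of_isOpenImmersion e.hom
    have hd : topologicalKrullDim ↥(π.fiber b) = 1 :=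
      ((IsHomeomorph.topologicalKrullDim_eq _ (Scheme.Hom.homeomorph e.hom).isHomeomorph).trans
        (GenusZeroLib.dim_projSpace k 1)).trans rfl
    have h1' : Subsingleton (Coh.HH (CohB1.ProjSpace 1 k) (Coh.structureModule (CohB1.ProjSpace 1 k)) 1) := by
      letI : (CohB1.ProjSpace 1 k).Over (Spec (CommRingCat.of k)) := ⟨CohB1.ProjSpace.toSpec 1 k⟩
      haveI : IsProper (CohB1.ProjSpace 1 k ↘ Spec (CommRingCat.of k)) := StratLib.isProper_toSpec 1 k
      exact GenusZeroLib.subsingleton_h1_of_iso (k := k) (Iso.refl (CohB1.ProjSpace 1 k))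
    have h1 := FibVanLib.subsingleton_HH_structure_of_iso e.symm h1'
    haveI : IsAlgClosed (B.residueField b) := IsAlgClosed.of_ringEquiv k (B.residueField b)
      (residueFieldIsoBase (B ↘ Spec (CommRingCat.of k)) b hb).commRingCatIsoToRingEquiv.symm
    exact ⟨‹_›, hd, h1, Groth.Agent.S14512.result (B.residueField b) (π.fiber b) hd
      (Module.finrank_zero_of_subsingleton), RRVanLib.finrank_h0_structure⟩
  -- the first cohomology of every fibre vanishes
  have hgen : ∀ b : B, IsClosed ({b} : Set B) → ∀ (s : B), s ⤳ b →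
      ∀ {P : Scheme.{u}} {K : Type u} [Field K] (t : Spec (CommRingCat.of K) ⟶ B)
        {g' : P ⟶ X} {f' : P ⟶ Spec (CommRingCat.of K)}, IsPullback g' f' π t → (∀ z, t z = s) →
        Subsingleton (Coh.HH P (Coh.structureModule P) 1) := by
    intro b hb s hsb P K _ t g' f' hsq ht
    obtain ⟨hi, hd, h1, -, -⟩ := hclosed b hb
    obtain ⟨V, hbV, hV⟩ := FibVanLib.exists_nhd_H1 π b hd.le h1
    have hU : IsAffineOpen (⊤ : (Spec (CommRingCat.of K)).Opens) := isAffineOpen_top _
    have h := hV hsq ⊤ hU (fun z _ => by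
      show t z ∈ V
      rw [ht z]
      exact hsb.mem_open V.isOpen hbV)
    exact FibVanLib.subsingleton_HH_structure_of_iso (P.topIso) h
  -- every point specialises to a closed point
  have hspec : ∀ s : B, ∃ b : B, IsClosed ({b} : Set B) ∧ s ⤳ b := fun s => by
    rcases isClosed_or_eq_generic k B hB1 s with h | h
    · exact ⟨s, h, specializes_rfl⟩
    · haveI : JacobsonSpace B := LocallyOfFiniteType.jacobsonSpace (B ↘ Spec (CommRingCat.of k))
      obtain ⟨b, -, hb⟩ := nonempty_inter_closedPoints (X := B) (Z := Set.univ) Set.univ_nonempty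
        isClosed_univ.isLocallyClosed
      exact ⟨b, hb, h ▸ genericPoint_specializes b⟩
  have hH1 : ∀ s : B, Subsingleton (Coh.HH (π.fiber s) (Coh.structureModule (π.fiber s)) 1) := fun s => by
    obtain ⟨b, hb, hsb⟩ := hspec s
    exact hgen b hb s hsb (B.fromSpecResidueField s) (IsPullback.of_hasPullback π (B.fromSpecResidueField s))
      fun z => Scheme.fromSpecResidueField_apply _ z
  have hdim : ∀ s : B, topologicalKrullDim ↥(π.fiber s) = 1 := fun s => by
    rcases isClosed_or_eq_generic k B hB1 s with h | rfl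
    · exact (hclosed s h).2.1
    · have h := dim_add_dim_fiber k (X ↘ Spec (CommRingCat.of k)) (B ↘ Spec (CommRingCat.of k)) π hπ
      rw [hX2, hB1] at h
      have hne : topologicalKrullDim ↥(π.fiber (genericPoint B)) ≠ ⊥ := by
        intro h'
        rw [h', WithBot.add_bot] at h
        exact absurd h (by decide)
      obtain ⟨n, hn⟩ := WithBot.ne_bot_iff_exists.1 hne
      rw [hn.symm] at h ⊢
      have h' : (2 : ℕ∞) = 1 + n := WithBot.coe_injective (by rw [WithBot.coe_add]; exact h)
      induction n using ENat.recTopCoe with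
      | top => simp at h'
      | coe m =>
        have : 2 = 1 + m := by exact_mod_cast h'
        obtain rfl : m = 1 := by omega
        rfl
  -- only constants, by constancy of the Euler characteristic
  have hχ : ∀ s : B, PerfAux.eulerChar π (Coh.structureModule X) s =
      (Module.finrank (B.residueField s) (Coh.HH (π.fiber s) (Coh.structureModule (π.fiber s)) 0) : ℤ) := by
    intro s
    let κ : Type u := B.residueField s
    have hb : ∀ i, PerfAux.betti π (Coh.structureModule X) s i =
        Module.finrank κ (Coh.HH (π.fiber s) (Coh.structureModule (π.fiber s)) i) := fun i =>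
      (CurvLib.hIso (k := κ) (KFlatLib.pullUnitIso (π.fiberι s)) i).finrank_eq
    haveI := CurvLib.isNoetherian κ (X := π.fiber s)
    unfold PerfAux.eulerChar
    rw [finsum_eq_single _ 0 fun i hi => ?_]
    · rw [hb, pow_zero, one_mul]
    · rw [hb]
      haveI : Subsingleton (Coh.HH (π.fiber s) (Coh.structureModule (π.fiber s)) i) := by
        rcases Nat.lt_or_ge 1 i with h | h
        · exact CurvLib.subsingleton_HH_of_dim_le _ (d := 1) (hdim s).le i h
        · obtain rfl : i = 1 := by omega
          exact hH1 s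
      rw [Module.finrank_zero_of_subsingleton, Nat.cast_zero, mul_zero]
  have hlc := Groth.Agent.S1026.result π (Coh.structureModule X)
    DepthLib.isFP_structureModule (PerfBaseLib.isFlatOver_unit π)
  have h0 : ∀ s : B, Module.finrank (B.residueField s) (Coh.HH (π.fiber s) (Coh.structureModule (π.fiber s)) 0) = 1 := by
    intro s
    obtain ⟨b, hb, -⟩ := hspec s
    have h := hlc.apply_eq_of_preconnectedSpace s b
    simp only [hχ, (hclosed b hb).2.2.2.2] at h
    exact_mod_cast h
  -- smoothness
  haveI hsm : Smooth π := by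
    refine Scheme.Hom.smoothLocus_eq_top_iff.mp (eq_top_iff.mpr fun x _ => ?_)
    haveI : JacobsonSpace X := LocallyOfFiniteType.jacobsonSpace (X ↘ Spec (CommRingCat.of k))
    by_contra hx
    obtain ⟨z, hz, hzc⟩ := nonempty_inter_closedPoints (X := X) (Z := (π.smoothLocus : Set X)ᶜ) ⟨x, hx⟩
      π.smoothLocus.isOpen.isClosed_compl.isLocallyClosed
    haveI : LocallyOfFinitePresentation (π.fiberToSpecResidueField (π z)) :=
      MorphismProperty.pullback_snd _ _ (inferInstanceAs (LocallyOfFinitePresentation π))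
    refine hz ((Groth.Agent.S2156.result π z).2 ⟨Flat.stalkMap π z, ?_⟩)
    have hb : IsClosed ({π z} : Set B) := by
      rw [mem_closedPoints_iff] at hzc
      rw [← Set.image_singleton]
      exact π.isClosedMap _ hzc
    haveI : Smooth (π.fiberToSpecResidueField (π z)) := (hclosed (π z) hb).2.2.2.1
    rw [Scheme.Hom.smoothLocus_eq_top]
    trivial
  refine ZeroFamLib.isCurveOfGenus_of_fibres π fun Ω _ _ x => ?_
  let pt : ↥(Spec (CommRingCat.of Ω)) := IsLocalRing.closedPoint Ω
  let s : B := x pt
  let φ : B.residueField s ⟶ CommRingCat.of Ω := ((Scheme.SpecToEquivOfField Ω B) x).2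
  have hx : Spec.map φ ≫ B.fromSpecResidueField s = x := (Scheme.SpecToEquivOfField Ω B).symm_apply_apply x
  letI : Algebra (B.residueField s) Ω := φ.hom.toAlgebra
  haveI : Smooth (π.fiber s ↘ Spec (CommRingCat.of (B.residueField s))) :=
    MorphismProperty.pullback_snd _ _ hsm
  haveI : Nonempty (π.fiber s) := by
    obtain ⟨z, hz⟩ := hsurj s
    exact ⟨(π.fiberHomeo s).symm ⟨z, hz⟩⟩
  haveI hFi : IsIntegral (π.fiber s) := isIntegral_of_h0 (B.residueField s) _ (h0 s)
  let P := Curv2.bc (B.residueField s) (π.fiber s) Ω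
  haveI := VeryAmpleLib.isProper_bc (B.residueField s) (π.fiber s) Ω
  have hP := VeryAmpleLib.isPullback_bc (B.residueField s) (π.fiber s) Ω
  haveI : Smooth (P ↘ Spec (CommRingCat.of Ω)) := MorphismProperty.of_isPullback hP ‹_›
  haveI : Nonempty P := by
    obtain ⟨z⟩ := ‹Nonempty (π.fiber s)›
    obtain ⟨w, hw, -⟩ := Scheme.Pullback.exists_preimage_pullback z (pt : ↥(Spec (CommRingCat.of Ω)))
      (Subsingleton.elim (α := PrimeSpectrum (B.residueField s))
        ((π.fiber s ↘ Spec (CommRingCat.of (B.residueField s))) z)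
        (Spec.map (CommRingCat.ofHom (algebraMap (B.residueField s) Ω)) pt))
    exact ⟨w⟩
  haveI : IsIntegral P := isIntegral_of_h0 Ω P ((VeryAmpleLib.h0_bc (B.residueField s) (π.fiber s) Ω).trans (h0 s))
  have hd : topologicalKrullDim P = 1 := (VeryAmpleLib.dim_bc (B.residueField s) (π.fiber s) Ω).trans (hdim s)
  have hg : Curv2.genus Ω P = 0 :=
    (VeryAmpleLib.genus_bc (B.residueField s) (π.fiber s) Ω).trans
      (haveI := hH1 s; Module.finrank_zero_of_subsingleton)
  have hsq : IsPullback (Curv2.bcFst (B.residueField s) (π.fiber s) Ω ≫ π.fiberι s)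
      (P ↘ Spec (CommRingCat.of Ω)) π x := by
    have h := hP.paste_horiz (IsPullback.of_hasPullback π (B.fromSpecResidueField s))
    rw [show Spec.map (CommRingCat.ofHom (algebraMap (B.residueField s) Ω)) = Spec.map φ from rfl, hx] at h
    exact h
  let e := hsq.isoPullback
  haveI : Nonempty ↥(pullback π x) := ⟨e.hom (Classical.arbitrary P)⟩
  refine ⟨isIntegral_of_isOpenImmersion e.inv,
    (IsHomeomorph.topologicalKrullDim_eq _ (Scheme.Hom.homeomorph e.inv).isHomeomorph).trans hd, ?_⟩
  obtain ⟨b, hb, hsb⟩ := hspec s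
  haveI := hgen b hb s hsb x (IsPullback.of_hasPullback π x) fun z => by
    rw [Subsingleton.elim (α := PrimeSpectrum Ω) z pt]
  letI : (pullback π x).Over (Spec (CommRingCat.of Ω)) := ⟨pullback.snd π x⟩
  show Module.finrank Ω (Coh.HH (pullback π x) (Coh.structureModule (pullback π x)) 1) = 0
  exact Module.finrank_zero_of_subsingleton

end ConicCurveLib

end
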