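import Groth.Agent.ConicCurveLib.Ruled
import Groth.Agent.CurveH0Lib.Smooth
import Groth.Agent.ZeroFamLib.Bundle

/-!
# Sections and bundle structure of surfaces ruled over a curve
-/

set_option autoImplicit false
set_option linter.style.haveILetI false
universe u

open CategoryTheory CategoryTheory.Limits AlgebraicGeometry
open KFlatLib (pb)

noncomputable section

namespace ConicCurveLib

variable (k : Type u) [Field k] [IsAlgClosed k] (X : Scheme.{u}) [X.Over (Spec (CommRingCat.of k))] [IsIntegral X]
  [IsProper (X ↘ Spec (CommRingCat.of k))] (B : Scheme.{u}) [B.Over (Spec (CommRingCat.of k))] [IsIntegral B]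
  [IsProper (B ↘ Spec (CommRingCat.of k))]

attribute [local instance] ZeroFamLib.fibreOver

/-- A geometrically ruled surface has a section. -/
theorem exists_section_of_closed_fibres (hX2 : topologicalKrullDim X = 2) (hB1 : topologicalKrullDim B = 1)
    (hreg : ∀ b : B, IsRegularLocalRing (B.presheaf.stalk b))
    (π : X ⟶ B) (hπ : π ≫ (B ↘ Spec (CommRingCat.of k)) = X ↘ Spec (CommRingCat.of k))
    (hsurj : Function.Surjective π)
    (hfib : ∀ b : B, IsClosed ({b} : Set B) → Nonempty (π.fiber b ≅ CohB1.ProjSpace 1 k)) :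
    ∃ σ : B ⟶ X, σ ≫ π = 𝟙 B := by
  have hg := isCurveOfGenus_of_closed_fibres k X B hX2 hB1 hreg π hπ hsurj hfib
  have d := ZeroFamLib.fibreData hg (genericPoint B)
  haveI := d.smooth
  haveI := d.proper
  haveI := d.conn
  haveI : GeometricallyIntegral (π.fiberToSpecResidueField (genericPoint B)) :=
    FibVALib.geometricallyIntegral_of_geometricallyConnected
      ((π.fiber (genericPoint B)) ↘ Spec (CommRingCat.of (B.residueField (genericPoint B))))
  haveI : Smooth (B ↘ Spec (CommRingCat.of k)) := CurveH0Lib.smooth_of_regular k _ hreg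
  have hgen : Curv2.genus (B.residueField (genericPoint B)) (π.fiber (genericPoint B)) = 0 := by
    haveI := d.h1
    exact Module.finrank_zero_of_subsingleton
  exact exists_section k B X hX2 hB1 π hπ (birationalOver_prod k B X hX2 hB1 π hπ hsurj hgen)

/-- A geometrically ruled surface is the bundle of a module of rank two. -/
theorem exists_isProjBundle_of_closed_fibres (hX2 : topologicalKrullDim X = 2) (hB1 : topologicalKrullDim B = 1)
    (hreg : ∀ b : B, IsRegularLocalRing (B.presheaf.stalk b))
    (π : X ⟶ B) (hπ : π ≫ (B ↘ Spec (CommRingCat.of k)) = X ↘ Spec (CommRingCat.of k))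
    (hsurj : Function.Surjective π)
    (hfib : ∀ b : B, IsClosed ({b} : Set B) → Nonempty (π.fiber b ≅ CohB1.ProjSpace 1 k)) :
    ∃ (E : B.Modules) (L : X.Modules) (q : pb π E ⟶ L),
      FlatMod.IsFinLocFreeOfRank 2 E ∧ KRR.IsProjBundle π E L q := by
  obtain ⟨σ, hσ⟩ := exists_section_of_closed_fibres k X B hX2 hB1 hreg π hπ hsurj hfib
  obtain ⟨E, hE, L, q, h⟩ := ZeroFamLib.exists_isProjBundle_of_section
    (isCurveOfGenus_of_closed_fibres k X B hX2 hB1 hreg π hπ hsurj hfib) σ hσ
  exact ⟨E, L, q, hE, h⟩

end ConicCurveLib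

end
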